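import Mathlib

/-!
# Wild and tame inertia at a maximal ideal of a ring with a group action
-/

universe u v w

open scoped Pointwise

namespace GrothLib.InertiaFilt

variable {B : Type u} [CommRing B] {G : Type v} [Group G] [MulSemiringAction G B]

theorem mem_inertia_iff {J : Ideal B} {σ : G} :
    σ ∈ J.inertia G ↔ ∀ x : B, σ • x - x ∈ J :=
  Iff.rfl

/-- An element trivial modulo `m ^ 2` acts trivially on every `m ^ i / m ^ (i+1)`. -/
theorem smul_sub_mem_pow_succ {m : Ideal B} {σ : G} (h : ∀ x : B, σ • x - x ∈ m ^ 2) :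
    ∀ (i : ℕ), ∀ y ∈ m ^ i, σ • y - y ∈ m ^ (i + 1) := by
  intro i
  induction i with
  | zero => exact fun y _ => Ideal.pow_le_pow_right (show 0 + 1 ≤ 2 by norm_num) (h y)
  | succ i ih =>
    intro y hy
    rw [pow_succ] at hy
    induction hy using Submodule.mul_induction_on' with
    | mem_mul_mem a ha b hb =>
      have h1 : σ • b ∈ m := by
        simpa using m.add_mem (Ideal.pow_le_self two_ne_zero (h b)) hb
      rw [show σ • (a * b) - a * b = (σ • a - a) * (σ • b) + a * (σ • b - b) by rw [smul_mul']; ring]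
      refine Ideal.add_mem _ ?_ ?_
      · rw [pow_succ (n := i + 1)]
        exact Ideal.mul_mem_mul (ih a ha) h1
      · rw [show i + 1 + 1 = i + 2 from rfl, pow_add]
        exact Ideal.mul_mem_mul ha (h b)
    | add a _ b _ iha ihb =>
      rw [smul_add, show σ • a + σ • b - (a + b) = (σ • a - a) + (σ • b - b) by ring]
      exact Ideal.add_mem _ iha ihb

/-- Elements of order invertible mod `m` which are trivial mod `m ^ 2` are trivial mod all powers. -/
theorem smul_sub_mem_pow_of_pow_eq_one {m : Ideal B} [hm : m.IsMaximal] {σ : G} {l : ℕ}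
    (hl : (l : B) ∉ m) (hσ : σ ^ l = 1) (h : ∀ x : B, σ • x - x ∈ m ^ 2) :
    ∀ (i : ℕ) (x : B), σ • x - x ∈ m ^ (i + 2) := by
  intro i
  induction i with
  | zero => exact h
  | succ i ih =>
    intro x
    let d := σ • x - x
    have hd : σ • d - d ∈ m ^ (i + 2 + 1) := smul_sub_mem_pow_succ h (i + 2) d (ih x)
    have key : ∀ j : ℕ, (σ ^ j) • x - x - (j : B) * d ∈ m ^ (i + 2 + 1) := by
      intro j
      induction j with
      | zero => simp
      | succ j ihj =>
        have hstable : ∀ y ∈ m ^ (i + 2 + 1), σ • y ∈ m ^ (i + 2 + 1) := fun y hy => by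
          simpa using Ideal.add_mem _
            (Ideal.pow_le_pow_right (by omega) (smul_sub_mem_pow_succ h _ y hy)) hy
        have hn : ∀ n : ℕ, σ • (n : B) = (n : B) := fun n =>
          map_natCast (MulSemiringAction.toRingHom G B σ) n
        have e : (σ ^ (j + 1)) • x - x - ((j + 1 : ℕ) : B) * d =
            σ • ((σ ^ j) • x - x - (j : B) * d) + (j : B) * (σ • d - d) := by
          rw [pow_succ', mul_smul, smul_sub, smul_sub, smul_mul', hn]
          push_cast
          show _ = _
          simp only [d]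
          ring
        rw [e]
        exact Ideal.add_mem _ (hstable _ ihj) (Ideal.mul_mem_left _ _ hd)
    have h1 : (l : B) * d ∈ m ^ (i + 2 + 1) := by
      have := key l
      rwa [hσ, one_smul, sub_self, zero_sub, neg_mem_iff] at this
    have htop : Ideal.span {(l : B)} ⊔ m ^ (i + 2 + 1) = ⊤ :=
      Ideal.sup_pow_eq_top (by
        rw [sup_comm]
        exact hm.out.2 _ (lt_of_le_of_ne le_sup_left fun e => hl (e ▸ Ideal.mem_sup_right
          (Ideal.mem_span_singleton_self _))))
    obtain ⟨a, ha, b, hb, hab⟩ := Submodule.mem_sup.mp ((Ideal.eq_top_iff_one _).mp htop)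
    obtain ⟨c, rfl⟩ := Ideal.mem_span_singleton'.mp ha
    show d ∈ _
    rw [show d = c * ((l : B) * d) + b * d by rw [← mul_assoc, ← add_mul, hab, one_mul]]
    exact Ideal.add_mem _ (Ideal.mul_mem_left _ _ h1) (Ideal.mul_mem_right _ _ hb)

theorem smul_eq_self_of_pow_eq_one [IsNoetherianRing B] [IsDomain B] {m : Ideal B} [hm : m.IsMaximal]
    {σ : G} {l : ℕ} (hl : (l : B) ∉ m) (hσ : σ ^ l = 1) (h : ∀ x : B, σ • x - x ∈ m ^ 2) (x : B) :
    σ • x = x := by
  refine sub_eq_zero.mp (show σ • x - x ∈ (⊥ : Ideal B) from ?_)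
  rw [← Ideal.iInf_pow_eq_bot_of_isDomain m hm.ne_top, Submodule.mem_iInf]
  intro i
  exact Ideal.pow_le_pow_right (Nat.le_add_right i 2) (smul_sub_mem_pow_of_pow_eq_one hl hσ h i x)

variable {A : Type w} [CommRing A] [Algebra A B] [SMulCommClass G A B]

/-- An inertia element fixing a generator of `m` mod `m ^ 2` is trivial mod `m ^ 2`, when the residue
extension is formally unramified. -/
theorem smul_sub_mem_sq_of_fix_generator {m : Ideal B} [m.IsMaximal]
    [Algebra.FormallyUnramified A (B ⧸ m)] {σ : G} (hσ : σ ∈ m.inertia G) {π : B} (hπ : π ∈ m)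
    (hgen : m ≤ Ideal.span {π} ⊔ m ^ 2) (hfix : σ • π - π ∈ m ^ 2) (x : B) :
    σ • x - x ∈ m ^ 2 := by
  let δ : B → m.Cotangent := fun x => m.toCotangent ⟨σ • x - x, hσ x⟩
  have hadd : ∀ x y, δ (x + y) = δ x + δ y := fun x y => by
    simp only [δ, ← map_add]
    congr 1
    exact Subtype.ext (show σ • (x + y) - (x + y) = (σ • x - x) + (σ • y - y) by rw [smul_add]; ring)
  have hsmul : ∀ (a : A) x, δ (a • x) = a • δ x := fun a x => by
    simp only [δ]
    rw [← algebraMap_smul B a (m.toCotangent _), ← map_smul]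
    congr 1
    exact Subtype.ext (show σ • (a • x) - a • x = algebraMap A B a * (σ • x - x) by
      rw [smul_comm σ a x, Algebra.smul_def, Algebra.smul_def, mul_sub])
  have hzero : ∀ (c : B) (z : m), c ∈ m → c • m.toCotangent z = 0 := fun c z hc => by
    rw [← map_smul, Ideal.toCotangent_eq_zero, pow_two]
    exact Ideal.mul_mem_mul hc z.2
  have hleib : ∀ x y, δ (x * y) = x • δ y + y • δ x := fun x y => by
    have e : δ (x * y) = (σ • y) • δ x + x • δ y := by
      simp only [δ, ← map_smul, ← map_add]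
      congr 1
      exact Subtype.ext (show σ • (x * y) - x * y = (σ • y) * (σ • x - x) + x * (σ • y - y) by
        rw [smul_mul']; ring)
    rw [e, add_comm]
    congr 1
    rw [← sub_eq_zero, ← sub_smul]
    exact hzero _ _ (hσ y)
  have hδπ : δ π = 0 := (Ideal.toCotangent_eq_zero _ _).mpr hfix
  have hm0 : ∀ z ∈ m, δ z = 0 := by
    intro z hz
    obtain ⟨a, ha, b, hb, rfl⟩ := Submodule.mem_sup.mp (hgen hz)
    obtain ⟨c, rfl⟩ := Ideal.mem_span_singleton'.mp ha
    rw [hadd, hleib, hδπ, smul_zero, zero_add]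
    have h1 : π • δ c = 0 := hzero _ _ hπ
    have h2 : δ b = 0 := by
      clear hz
      rw [pow_two] at hb
      induction hb using Submodule.mul_induction_on' with
      | mem_mul_mem p hp q hq =>
        rw [hleib, hzero p _ hp, hzero q _ hq, add_zero]
      | add p _ q _ ihp ihq => rw [hadd, ihp, ihq, add_zero]
    rw [h1, h2, add_zero]
  have hwd : ∀ x y, Ideal.Quotient.mk m x = Ideal.Quotient.mk m y → δ x = δ y := fun x y h => by
    rw [show x = y + (x - y) by ring, hadd, hm0 _ (Ideal.Quotient.eq.mp h), add_zero]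
  let f : (B ⧸ m) → m.Cotangent := fun q => δ (Function.surjInv Ideal.Quotient.mk_surjective q)
  have hf : ∀ x, f (Ideal.Quotient.mk m x) = δ x := fun x =>
    hwd _ _ (Function.surjInv_eq Ideal.Quotient.mk_surjective _)
  let L : (B ⧸ m) →ₗ[A] m.Cotangent :=
    { toFun := f
      map_add' := fun p q => by
        obtain ⟨p, rfl⟩ := Ideal.Quotient.mk_surjective p
        obtain ⟨q, rfl⟩ := Ideal.Quotient.mk_surjective q
        rw [← map_add, hf, hf, hf, hadd]
      map_smul' := fun a p => by
        obtain ⟨p, rfl⟩ := Ideal.Quotient.mk_surjective p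
        rw [show a • Ideal.Quotient.mk m p = Ideal.Quotient.mk m (a • p) from rfl, hf, hf,
          RingHom.id_apply, hsmul] }
  have hmk : ∀ (c : B) (z : m.Cotangent), Ideal.Quotient.mk m c • z = c • z := fun c z => by
    rw [← Ideal.Quotient.algebraMap_eq, algebraMap_smul]
  haveI : IsScalarTower A (B ⧸ m) m.Cotangent := ⟨fun a c z => by
    obtain ⟨c, rfl⟩ := Ideal.Quotient.mk_surjective c
    rw [show a • Ideal.Quotient.mk m c = Ideal.Quotient.mk m (a • c) from rfl, hmk, hmk, smul_assoc]⟩
  let D : Derivation A (B ⧸ m) m.Cotangent := Derivation.mk' L fun p q => by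
    obtain ⟨p, rfl⟩ := Ideal.Quotient.mk_surjective p
    obtain ⟨q, rfl⟩ := Ideal.Quotient.mk_surjective q
    show f (Ideal.Quotient.mk m p * Ideal.Quotient.mk m q) =
      Ideal.Quotient.mk m p • f (Ideal.Quotient.mk m q) + Ideal.Quotient.mk m q • f (Ideal.Quotient.mk m p)
    rw [← map_mul, hf, hf, hf, hmk, hmk, hleib]
  have hD : D (Ideal.Quotient.mk m x) = 0 := by
    rw [← D.liftKaehlerDifferential_comp_D,
      Subsingleton.elim (KaehlerDifferential.D A (B ⧸ m) (Ideal.Quotient.mk m x)) 0, map_zero]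
  have : δ x = 0 := (hf x).symm.trans hD
  exact (Ideal.toCotangent_eq_zero _ _).mp this

end GrothLib.InertiaFilt
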