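import Mathlib

/-!
# The order of the inertia group for separable residue extensions
-/

namespace GrothLib.InertiaFilt

open scoped Pointwise

variable {R S G : Type*} [CommRing R] [CommRing S] [Algebra R S] [Group G]
  [MulSemiringAction G S] [IsGaloisGroup G R S] [Finite G]

attribute [local instance] Ideal.Quotient.field in
theorem card_stabilizer_eq (p : Ideal R) [p.IsMaximal] (P : Ideal S) [P.LiesOver p] [P.IsMaximal]
    [Algebra.IsSeparable (R ⧸ p) (S ⧸ P)] :
    Nat.card (MulAction.stabilizer G P) = Nat.card (P.inertia G) * P.inertiaDeg R := by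
  let := Localization.AtPrime.algebraOfLiesOver p P
  have heq : (algebraMap (S ⧸ P) P.ResidueField).comp (algebraMap (R ⧸ p) (S ⧸ P)) =
      (algebraMap p.ResidueField P.ResidueField).comp (algebraMap (R ⧸ p) p.ResidueField) := by
    ext
    simp [← IsScalarTower.algebraMap_apply]
  let := ((algebraMap (S ⧸ P) P.ResidueField).comp (algebraMap (R ⧸ p) (S ⧸ P))).toAlgebra
  have : IsScalarTower (R ⧸ p) (S ⧸ P) P.ResidueField := .of_algebraMap_eq' rfl
  have : IsScalarTower (R ⧸ p) p.ResidueField P.ResidueField := .of_algebraMap_eq' heq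
  have : Algebra.IsSeparable p.ResidueField P.ResidueField :=
    Algebra.IsSeparable.of_equiv_equiv
      (RingEquiv.ofBijective _ p.bijective_algebraMap_quotient_residueField)
      (RingEquiv.ofBijective _ P.bijective_algebraMap_quotient_residueField) heq.symm
  have : IsGalois p.ResidueField P.ResidueField :=
    { __ := Ideal.IsFractionRing.normal G p P p.ResidueField P.ResidueField }
  have : Module.Finite p.ResidueField P.ResidueField :=
    Ideal.IsFractionRing.finite_of_isInvariant G p P p.ResidueField P.ResidueField
  have : Subgroup.index _ = _ := Nat.card_congr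
    (IsFractionRing.stabilizerQuotientInertiaEquiv G p P p.ResidueField P.ResidueField).toEquiv
  rw [Ideal.inertiaDeg_eq p P, ← IsGalois.card_aut_eq_finrank p.ResidueField P.ResidueField, ← this,
    ← ((P.inertia G).subgroupOf (MulAction.stabilizer G P)).card_mul_index,
    Nat.card_congr (Subgroup.subgroupOfEquivOfLe (Ideal.inertia_le_stabilizer (M := G) P)).toEquiv,
    AddSubgroup.subgroupOf_inertia]

theorem card_inertia_eq [IsDomain R] [IsDomain S] [Module.Finite R S] [Module.Flat R S]
    (p : Ideal R) [p.IsMaximal] (P : Ideal S) [P.LiesOver p] [P.IsMaximal]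
    [Algebra.IsSeparable (R ⧸ p) (S ⧸ P)] :
    Nat.card (P.inertia G) = Ideal.ramificationIdxIn p S := by
  have H : (p.primesOver S).ncard * Nat.card (P.inertia G) * P.inertiaDeg R = Nat.card G := by
    rw [mul_assoc, ← card_stabilizer_eq p P,
      ← Algebra.IsInvariant.orbit_eq_primesOver R S G p P]
    simpa using Nat.card_congr (MulAction.orbitProdStabilizerEquivGroup G P)
  rw [← Ideal.inertiaDegIn_eq_inertiaDeg p P G] at H
  have h1 : (p.primesOver S).ncard ≠ 0 := by grind [Nat.card_pos]
  have h2 : p.inertiaDegIn S ≠ 0 := by grind [Nat.card_pos]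
  rwa [← Ideal.ncard_primesOver_mul_ramificationIdxIn_mul_inertiaDegIn p S G,
    mul_assoc, mul_right_inj' h1, mul_left_inj' h2] at H

end GrothLib.InertiaFilt
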